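import Mathlib

/-!
# Smooth algebras over reduced rings are reduced

Proof: integral closure commutes with smooth base change, and `R` is integrally closed in `R[X]`.
-/

set_option autoImplicit false
universe u

open scoped TensorProduct Polynomial
open CategoryTheory AlgebraicGeometry

namespace Groth.Agent.UnitProd

variable {R : Type u} [CommRing R] [_root_.IsReduced R]

theorem natDegree_eq_zero_of_isIntegral {y : R[X]} (h : IsIntegral R y) : y.natDegree = 0 := by
  obtain ⟨p, hp, he⟩ := h
  by_contra hd
  have hne : y ≠ 0 := fun h0 => hd (by simp [h0])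
  have : Nontrivial R := ⟨⟨_, _, Polynomial.leadingCoeff_ne_zero.mpr hne⟩⟩
  have hc : p.leadingCoeff * y.leadingCoeff ^ p.natDegree ≠ 0 := by
    rw [hp.leadingCoeff, one_mul]
    exact fun h => Polynomial.leadingCoeff_ne_zero.mpr hne (IsReduced.eq_zero _ ⟨_, h⟩)
  have h1 := Polynomial.natDegree_comp_eq_of_mul_ne_zero hc
  rw [show p.comp y = 0 from he, Polynomial.natDegree_zero, eq_comm, mul_eq_zero] at h1
  rcases h1 with h1 | h1
  · rw [hp.natDegree_eq_zero.mp h1] at he
    simp at he
  · exact hd h1

variable (R) in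
theorem isReduced_of_smooth (S : Type u) [CommRing S] [Algebra R S] [Algebra.Smooth R S] : _root_.IsReduced S := by
  refine ⟨fun a ha => ?_⟩
  obtain ⟨n, hn⟩ := ha
  have hx : IsIntegral S (a ⊗ₜ[R] (Polynomial.X : R[X])) := by
    have h : (a ⊗ₜ[R] (Polynomial.X : R[X])) ^ (n + 1) = 0 := by
      rw [Algebra.TensorProduct.tmul_pow, pow_succ a, hn, zero_mul, TensorProduct.zero_tmul]
    exact ⟨Polynomial.X ^ (n + 1), Polynomial.monic_X_pow _, by simp [h]⟩
  obtain ⟨z, hz⟩ := (TensorProduct.toIntegralClosure_bijective_of_smooth (R := R) (S := S) (B := R[X])).2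
    (⟨_, hx⟩ : integralClosure S (S ⊗[R] R[X]))
  let φ : S ⊗[R] R[X] →ₗ[R] S :=
    (TensorProduct.rid R S).toLinearMap.comp ((Polynomial.lcoeff R 1).lTensor S)
  have h0 : ∀ z : S ⊗[R] integralClosure R R[X],
      φ (TensorProduct.toIntegralClosure R S R[X] z : S ⊗[R] R[X]) = 0 := by
    intro z
    induction z using TensorProduct.induction_on with
    | zero => simp
    | tmul s y =>
      have : (y : R[X]).coeff 1 = 0 := Polynomial.coeff_eq_zero_of_natDegree_lt (by
        rw [natDegree_eq_zero_of_isIntegral y.2]; exact one_pos)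
      simp [φ, TensorProduct.toIntegralClosure, this]
    | add x y hx hy => simp [hx, hy]
  have := h0 z
  rw [hz] at this
  simpa [φ] using this

/-- A scheme smooth over a field is reduced. -/
theorem isReduced_left_of_smooth {K : Type u} [Field K] {X : Scheme.{u}} (f : X ⟶ Spec (CommRingCat.of K))
    [Smooth f] : IsReduced X := by
  suffices h : ∀ i, IsReduced (X.affineCover.X i) from @IsReduced.of_openCover _ X.affineCover h
  intro i
  obtain ⟨φ, hφ⟩ := Spec.map_surjective (R := CommRingCat.of K) (S := X.affineOpenCover.X i) (X.affineCover.f i ≫ f)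
  have : IsOpenImmersion (X.affineCover.f i) := X.affineCover.map_prop i
  have hs' : Smooth (X.affineCover.f i ≫ f) := inferInstance
  have hs : Smooth (Spec.map φ) := hφ ▸ hs'
  let : Algebra K (X.affineOpenCover.X i) := φ.hom.toAlgebra
  have : Algebra.Smooth K (X.affineOpenCover.X i) := (HasRingHomProperty.Spec_iff (P := @Smooth)).mp hs
  exact (affine_isReduced_iff (X.affineOpenCover.X i)).mpr (isReduced_of_smooth K _)

end Groth.Agent.UnitProd
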