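import Mathlib
import Groth.Agent.UnitProd.Alg

/-!
# Units on a product over an algebraically closed field are determined by the two axes
-/

set_option autoImplicit false
universe u

open CategoryTheory Limits AlgebraicGeometry MonoidalCategory CartesianMonoidalCategory
open scoped TensorProduct

noncomputable section

namespace Groth.Agent.UnitProd

variable {K : Type u} [Field K]

/-- The spectrum of a `K`-algebra over `K`. -/
abbrev sp (A : Type u) [CommRing A] [Algebra K A] : Over (Spec (CommRingCat.of K)) :=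
  Over.mk (Spec.map (CommRingCat.ofHom (algebraMap K A)))

/-- The map of spectra of a map of algebras. -/
abbrev spMap {A B : Type u} [CommRing A] [Algebra K A] [CommRing B] [Algebra K B] (m : A →ₐ[K] B) :
    sp (K := K) B ⟶ sp A :=
  Over.homMk (Spec.map (CommRingCat.ofHom m.toRingHom)) (by
    simp only [Over.mk_hom]; rw [← Spec.map_comp]; congr 1; ext c; exact m.commutes c)

/-- The pullback of a global function to an affine scheme. -/
def gam {P : Scheme.{u}} {R : Type u} [CommRing R] (T : Spec (CommRingCat.of R) ⟶ P) : Γ(P, ⊤) →+* R :=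
  (T.appTop ≫ (Scheme.ΓSpecIso (CommRingCat.of R)).hom).hom

theorem gam_comp {P Q : Scheme.{u}} {R : Type u} [CommRing R] (T : Spec (CommRingCat.of R) ⟶ P) (g : P ⟶ Q)
    (w : Γ(Q, ⊤)) : gam (T ≫ g) w = gam T (g.appTop w) := rfl

theorem gam_specMap {P : Scheme.{u}} {R R' : Type u} [CommRing R] [CommRing R'] (φ : R →+* R')
    (T : Spec (CommRingCat.of R) ⟶ P) (w : Γ(P, ⊤)) :
    gam (Spec.map (CommRingCat.ofHom φ) ≫ T) w = φ (gam T w) := by
  change ((Spec.map (CommRingCat.ofHom φ) ≫ T).appTop ≫ (Scheme.ΓSpecIso _).hom).hom w = _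
  rw [Scheme.Hom.comp_appTop, Category.assoc, Scheme.ΓSpecIso_naturality]
  rfl

variable [IsAlgClosed K] {X Y : Over (Spec (CommRingCat.of K))} [LocallyOfFiniteType X.hom]
  [LocallyOfFiniteType Y.hom]

/-- A locally constant function of the rational points of a connected scheme is constant. -/
theorem eq_of_locally [ConnectedSpace X.left] {α : Type*} (F : (𝟙_ (Over (Spec (CommRingCat.of K))) ⟶ X) → α)
    (hF : ∀ x, ∃ U : Set X.left, IsOpen U ∧ x.left (IsLocalRing.closedPoint K) ∈ U ∧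
      ∀ x' : 𝟙_ (Over (Spec (CommRingCat.of K))) ⟶ X, x'.left (IsLocalRing.closedPoint K) ∈ U → F x' = F x)
    (x₁ x₂ : 𝟙_ (Over (Spec (CommRingCat.of K))) ⟶ X) : F x₁ = F x₂ := by
  have : JacobsonSpace X.left := LocallyOfFiniteType.jacobsonSpace X.hom
  have hpt : ∀ p : X.left, IsClosed ({p} : Set X.left) →
      ∃ x : 𝟙_ (Over (Spec (CommRingCat.of K))) ⟶ X, x.left (IsLocalRing.closedPoint K) = p := fun p hp =>
    ⟨Over.homMk (pointOfClosedPoint X.hom p hp) (pointOfClosedPoint_comp X.hom p hp),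
      pointOfClosedPoint_apply X.hom p hp _⟩
  let O₁ : Set X.left := ⋃₀ {U | IsOpen U ∧ ∀ x' : 𝟙_ (Over (Spec (CommRingCat.of K))) ⟶ X,
    x'.left (IsLocalRing.closedPoint K) ∈ U → F x' = F x₂}
  let O₂ : Set X.left := ⋃₀ {U | IsOpen U ∧ ∀ x' : 𝟙_ (Over (Spec (CommRingCat.of K))) ⟶ X,
    x'.left (IsLocalRing.closedPoint K) ∈ U → F x' ≠ F x₂}
  have h₁ : IsOpen O₁ := isOpen_sUnion fun U hU => hU.1
  have h₂ : IsOpen O₂ := isOpen_sUnion fun U hU => hU.1
  have hdisj : O₁ ∩ O₂ = ∅ := by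
    by_contra h
    obtain ⟨p, hp, hpc⟩ := nonempty_inter_closedPoints (Z := O₁ ∩ O₂) (Set.nonempty_iff_ne_empty.mpr h)
      (h₁.inter h₂).isLocallyClosed
    obtain ⟨x, rfl⟩ := hpt p hpc
    obtain ⟨U₁, hU₁, hxU₁⟩ := hp.1
    obtain ⟨U₂, hU₂, hxU₂⟩ := hp.2
    exact hU₂.2 x hxU₂ (hU₁.2 x hxU₁)
  have hcov : O₁ ∪ O₂ = Set.univ := by
    by_contra h
    obtain ⟨p, hp, hpc⟩ := nonempty_inter_closedPoints (Z := (O₁ ∪ O₂)ᶜ) (Set.nonempty_compl.mpr h)
      (h₁.union h₂).isClosed_compl.isLocallyClosed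
    obtain ⟨x, rfl⟩ := hpt p hpc
    obtain ⟨U, hU, hxU, hconst⟩ := hF x
    by_cases hx : F x = F x₂
    · exact hp (Or.inl ⟨U, ⟨hU, fun x' h' => (hconst x' h').trans hx⟩, hxU⟩)
    · exact hp (Or.inr ⟨U, ⟨hU, fun x' h' => (hconst x' h').trans_ne hx⟩, hxU⟩)
  have hclopen : IsClopen O₁ := ⟨by
    rw [← isOpen_compl_iff]
    convert h₂ using 1
    ext p
    refine ⟨fun hp => (hcov.ge (Set.mem_univ p)).resolve_left hp, fun hp hp' => ?_⟩
    exact hdisj.subset (⟨hp', hp⟩ : p ∈ O₁ ∩ O₂), h₁⟩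
  have hne : x₂.left (IsLocalRing.closedPoint K) ∈ O₁ := by
    obtain ⟨U, hU, hxU, hconst⟩ := hF x₂
    exact ⟨U, ⟨hU, hconst⟩, hxU⟩
  obtain ⟨U, hU, hxU⟩ : x₁.left (IsLocalRing.closedPoint K) ∈ O₁ := by
    rw [hclopen.eq_univ ⟨_, hne⟩]; trivial
  exact hU.2 x₁ hxU

/-- An affine chart at a point. -/
theorem exists_chart [IsReduced X.left] (p : X.left) :
    ∃ (A : Type u) (_ : CommRing A) (_ : Algebra K A) (_ : Algebra.FiniteType K A) (_ : _root_.IsReduced A)
      (e : sp (K := K) A ⟶ X) (_ : IsOpenImmersion e.left), p ∈ Set.range e.left := by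
  obtain ⟨V, hV, hpV, -⟩ := exists_isAffineOpen_mem_and_subset (X := X.left) (x := p) (U := ⊤) trivial
  obtain ⟨ψ, hψ⟩ := Spec.map_surjective (R := CommRingCat.of K) (hV.fromSpec ≫ X.hom)
  let : Algebra K Γ(X.left, V) := ψ.hom.toAlgebra
  refine ⟨Γ(X.left, V), inferInstance, inferInstance, ?_, inferInstance, Over.homMk hV.fromSpec hψ.symm, inferInstanceAs (IsOpenImmersion hV.fromSpec), ?_⟩
  · exact RingHom.finiteType_algebraMap.mp ((HasRingHomProperty.Spec_iff (P := @LocallyOfFiniteType)).mp (hψ ▸ inferInstance))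
  · exact hV.range_fromSpec.ge hpV

omit [IsAlgClosed K] [LocallyOfFiniteType X.hom] in
/-- Rational points in a chart come from algebra maps. -/
theorem exists_algHom {A : Type u} [CommRing A] [Algebra K A] (e : sp (K := K) A ⟶ X) [IsOpenImmersion e.left]
    (x : 𝟙_ (Over (Spec (CommRingCat.of K))) ⟶ X) (hx : x.left (IsLocalRing.closedPoint K) ∈ Set.range e.left) :
    ∃ φ : A →ₐ[K] K, Spec.map (CommRingCat.ofHom φ.toRingHom) ≫ e.left = x.left := by
  let g : Spec (CommRingCat.of K) ⟶ Spec (CommRingCat.of A) := IsOpenImmersion.lift e.left x.left (by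
    rintro _ ⟨c, rfl⟩; rwa [Subsingleton.elim c (IsLocalRing.closedPoint K)])
  have hg : g ≫ e.left = x.left := IsOpenImmersion.lift_fac ..
  obtain ⟨ψ, hψ⟩ := Spec.map_surjective g
  have hw : ψ.hom.comp (algebraMap K A) = RingHom.id K := by
    have : g ≫ Spec.map (CommRingCat.ofHom (algebraMap K A)) = 𝟙 _ := by
      rw [show Spec.map (CommRingCat.ofHom (algebraMap K A)) = e.left ≫ X.hom from (Over.w e).symm,
        ← Category.assoc, hg]
      exact Over.w x
    rw [← hψ, ← Spec.map_comp, ← Spec.map_id] at this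
    exact congrArg CommRingCat.Hom.hom (Spec.map_injective this)
  refine ⟨⟨ψ.hom, fun c => congr($hw c)⟩, ?_⟩
  rw [← hg, ← hψ]; rfl

variable (w : Γ((X ⊗ Y).left, ⊤)ˣ)

/-- The restriction of `w` to `X × {y}`. -/
abbrev slice (y : 𝟙_ (Over (Spec (CommRingCat.of K))) ⟶ Y) : Γ(X.left, ⊤) :=
  (lift (𝟙 X) (toUnit X ≫ y)).left.appTop w.1

/-- On every component, the restriction of `w` to `X × {y}` is constant. -/
theorem quot_constant [IsReduced Y.left] [ConnectedSpace Y.left] (eY : 𝟙_ (Over (Spec (CommRingCat.of K))) ⟶ Y)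
    (hY : slice w eY = 1) {A : Type u} [CommRing A] [Algebra K A] (e : sp (K := K) A ⟶ X) (p : Ideal A) [p.IsPrime]
    (y : 𝟙_ (Over (Spec (CommRingCat.of K))) ⟶ Y) :
    ∃ c : K, gam e.left (slice w y) - algebraMap K A c ∈ p := by
  let L := FractionRing (A ⧸ p)
  let ι : A →ₐ[K] L := (IsScalarTower.toAlgHom K (A ⧸ p) L).comp (Ideal.Quotient.mkₐ K p)
  obtain ⟨c, hc⟩ : ∃ c : K, ι (gam e.left (slice w y)) = algebraMap K L c := by
    refine exists_eq_algebraMap _ fun O hO => ?_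
    refine (eq_of_locally (fun y' => O.valuation (ι (gam e.left (slice w y')))) (fun y₀ => ?_) y eY).trans
      (by simp only [hY, map_one])
    obtain ⟨B, _, _, _, _, e', _, hy₀⟩ := exists_chart (X := Y) (y₀.left (IsLocalRing.closedPoint K))
    let Tm : sp (K := K) (A ⊗[K] B) ⟶ X ⊗ Y :=
      lift (spMap (Algebra.TensorProduct.includeLeft : A →ₐ[K] A ⊗[K] B) ≫ e)
        (spMap (Algebra.TensorProduct.includeRight : B →ₐ[K] A ⊗[K] B) ≫ e')
    let ω : (L ⊗[K] B)ˣ := Units.map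
      ((Algebra.TensorProduct.map ι (AlgHom.id K B)).toRingHom.comp (gam Tm.left)).toMonoidHom w
    have key : ∀ (y' : 𝟙_ (Over (Spec (CommRingCat.of K))) ⟶ Y) (φ : B →ₐ[K] K),
        Spec.map (CommRingCat.ofHom φ.toRingHom) ≫ e'.left = y'.left →
          spz φ ω.1 = ι (gam e.left (slice w y')) := by
      intro y' φ hφ
      let μ : A ⊗[K] B →ₐ[K] A :=
        Algebra.TensorProduct.lift (AlgHom.id K A) ((Algebra.ofId K A).comp φ) fun _ _ => Commute.all _ _
      have hμ : Spec.map (CommRingCat.ofHom μ.toRingHom) ≫ Tm.left =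
          e.left ≫ (lift (𝟙 X) (toUnit X ≫ y')).left := by
        refine congr($((?_ : spMap μ ≫ Tm = e ≫ lift (𝟙 X) (toUnit X ≫ y'))).left)
        refine CartesianMonoidalCategory.hom_ext _ _ ?_ ?_
        · rw [Category.assoc, lift_fst, Category.assoc, lift_fst, Category.comp_id]
          ext : 1
          simp only [Over.comp_left, Over.homMk_left]
          rw [← Category.assoc, ← Spec.map_comp]
          convert Category.id_comp e.left using 2
          refine Eq.trans ?_ (Spec.map_id (CommRingCat.of A))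
          congr 1
          ext a
          simp [μ]
        · rw [Category.assoc, lift_snd, Category.assoc, lift_snd]
          ext : 1
          simp only [Over.comp_left, Over.homMk_left]
          rw [← Category.assoc, ← Spec.map_comp, ← hφ, ← Category.assoc e.left, ← Category.assoc (e.left ≫ _)]
          congr 1
          rw [show e.left ≫ (toUnit X).left = Spec.map (CommRingCat.ofHom (algebraMap K A)) from Over.w e,
            ← Spec.map_comp]
          congr 1
          ext b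
          simp [μ, Algebra.ofId_apply]
      rw [← gam_comp, ← hμ, gam_specMap]
      have hcomp : (spz φ).comp (Algebra.TensorProduct.map ι (AlgHom.id K B)) = ι.comp μ := by
        ext a <;> simp [μ, spz, Algebra.ofId_apply]
      exact AlgHom.congr_fun hcomp (gam Tm.left w.1)
    obtain ⟨φ₀, hφ₀⟩ := exists_algHom e' y₀ hy₀
    obtain ⟨J₁, J₂, ⟨h₁, h₂⟩, hJ⟩ := exists_ideals O hO ω φ₀
    let D : Set (PrimeSpectrum B) := (PrimeSpectrum.zeroLocus J₁)ᶜ ∩ (PrimeSpectrum.zeroLocus J₂)ᶜ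
    have hpt : ∀ φ : B →ₐ[K] K, ((Spec.map (CommRingCat.ofHom φ.toRingHom) (IsLocalRing.closedPoint K) : Spec (CommRingCat.of B))).asIdeal
        = RingHom.ker φ := fun φ => by
      ext b
      exact (show φ b ∈ IsLocalRing.maximalIdeal K ↔ φ b = 0 by simp [IsLocalRing.maximalIdeal_eq_bot])
    refine ⟨e'.left '' D, e'.left.isOpenEmbedding.isOpenMap _
      ((PrimeSpectrum.isClosed_zeroLocus _).isOpen_compl.inter (PrimeSpectrum.isClosed_zeroLocus _).isOpen_compl),
      ⟨Spec.map (CommRingCat.ofHom φ₀.toRingHom) (IsLocalRing.closedPoint K), ⟨fun h => h₁ fun b hb => (hpt φ₀).le (h hb), fun h => h₂ fun b hb => (hpt φ₀).le (h hb)⟩, ?_⟩, fun y' hy' => ?_⟩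
    · rw [← hφ₀]; rfl
    · obtain ⟨q, hq, hqy⟩ := hy'
      obtain ⟨φ, hφ⟩ := exists_algHom e' y' ⟨q, hqy⟩
      have : q = Spec.map (CommRingCat.ofHom φ.toRingHom) (IsLocalRing.closedPoint K) :=
        e'.left.isOpenEmbedding.injective (hqy.trans (by rw [← hφ]; rfl))
      subst this
      simp only [← key y' φ hφ, ← key y₀ φ₀ hφ₀]
      exact hJ φ (fun h => hq.1 fun b hb => (hpt φ).ge (h hb)) (fun h => hq.2 fun b hb => (hpt φ).ge (h hb))
  refine ⟨c, Ideal.Quotient.eq_zero_iff_mem.mp (IsFractionRing.injective (A ⧸ p) L ?_)⟩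
  rw [map_sub, map_sub, map_zero, sub_eq_zero, Ideal.Quotient.mk_algebraMap, ← IsScalarTower.algebraMap_apply]
  exact hc

/-- A unit which is one on both axes is one at every rational point. -/
theorem apply_eq_one [IsReduced X.left] [IsReduced Y.left] [ConnectedSpace X.left] [ConnectedSpace Y.left]
    (eX : 𝟙_ (Over (Spec (CommRingCat.of K))) ⟶ X) (eY : 𝟙_ (Over (Spec (CommRingCat.of K))) ⟶ Y)
    (hY : slice w eY = 1) (hX : (lift (toUnit Y ≫ eX) (𝟙 Y)).left.appTop w.1 = 1)
    (x : 𝟙_ (Over (Spec (CommRingCat.of K))) ⟶ X) (y : 𝟙_ (Over (Spec (CommRingCat.of K))) ⟶ Y) :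
    gam (R := K) (lift x y).left w.1 = 1 := by
  have hlift : ∀ x : 𝟙_ (Over (Spec (CommRingCat.of K))) ⟶ X, x ≫ lift (𝟙 X) (toUnit X ≫ y) = lift x y := fun x => by
    rw [comp_lift, Category.comp_id, ← Category.assoc, toUnit_unique (x ≫ toUnit X) (𝟙 _), Category.id_comp]
  have h := eq_of_locally (fun x : 𝟙_ (Over (Spec (CommRingCat.of K))) ⟶ X => gam (R := K) x.left (slice w y))
    (fun x₀ => ?_) x eX
  · rw [← gam_comp, ← gam_comp, ← Over.comp_left, ← Over.comp_left, hlift, hlift] at h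
    rw [h, show lift eX y = y ≫ lift (toUnit Y ≫ eX) (𝟙 Y) by
      rw [comp_lift, Category.comp_id, ← Category.assoc, toUnit_unique (y ≫ toUnit Y) (𝟙 _), Category.id_comp],
      Over.comp_left, gam_comp, hX, map_one]
  obtain ⟨A, _, _, _, _, e, _, hx₀⟩ := exists_chart (X := X) (x₀.left (IsLocalRing.closedPoint K))
  obtain ⟨φ₀, hφ₀⟩ := exists_algHom e x₀ hx₀
  have : IsNoetherianRing A := Algebra.FiniteType.isNoetherianRing K A
  set f := gam e.left (slice w y) with hf
  have hval : ∀ (x : 𝟙_ (Over (Spec (CommRingCat.of K))) ⟶ X) (φ : A →ₐ[K] K),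
      Spec.map (CommRingCat.ofHom φ.toRingHom) ≫ e.left = x.left → gam (R := K) x.left (slice w y) = φ f := by
    intro x φ hφ
    rw [← hφ, gam_specMap]; rfl
  have hfin := minimalPrimes.finite_of_isNoetherianRing A
  have hex : ∀ q ∈ minimalPrimes A, ∃ s : A, φ₀ s ≠ 0 ∧ s * (f - algebraMap K A (φ₀ f)) ∈ q := by
    intro q hq
    have := hq.1.1
    obtain ⟨c, hc⟩ := quot_constant w eY hY e q y
    by_cases hle : q ≤ RingHom.ker φ₀
    · refine ⟨1, by simp, ?_⟩
      have : φ₀ f = c := by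
        have := RingHom.mem_ker.mp (hle hc)
        rwa [map_sub, AlgHom.commutes, Algebra.algebraMap_self, RingHom.id_apply, sub_eq_zero] at this
      rwa [one_mul, this]
    · obtain ⟨s, hs, hs'⟩ := SetLike.not_le_iff_exists.mp hle
      exact ⟨s, hs', Ideal.mul_mem_right _ _ hs⟩
  choose s hs₀ hs using hex
  let t := ∏ q ∈ hfin.toFinset.attach, s q.1 (hfin.mem_toFinset.mp q.2)
  have ht₀ : φ₀ t ≠ 0 := by
    rw [map_prod]; exact Finset.prod_ne_zero_iff.mpr fun q _ => hs₀ _ _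
  have ht : t * (f - algebraMap K A (φ₀ f)) = 0 := by
    refine IsReduced.eq_zero _ (mem_nilradical.mp ?_)
    rw [nilradical_eq_sInf, Ideal.mem_sInf]
    intro P (hP : P.IsPrime)
    obtain ⟨q, hq, hle⟩ := Ideal.exists_minimalPrimes_le (I := ⊥) (J := P) bot_le
    obtain ⟨r, hr⟩ := Finset.dvd_prod_of_mem (fun q : hfin.toFinset => s q.1 (hfin.mem_toFinset.mp q.2))
      (Finset.mem_attach _ ⟨q, hfin.mem_toFinset.mpr hq⟩)
    refine hle ?_
    rw [show t = _ from hr, mul_right_comm]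
    exact Ideal.mul_mem_right _ _ (hs q hq)
  refine ⟨e.left '' (PrimeSpectrum.basicOpen t : Set (PrimeSpectrum A)),
    e.left.isOpenEmbedding.isOpenMap _ (PrimeSpectrum.basicOpen t).isOpen,
    ⟨Spec.map (CommRingCat.ofHom φ₀.toRingHom) (IsLocalRing.closedPoint K), ?_, by rw [← hφ₀]; rfl⟩, fun x hx => ?_⟩
  · exact fun h => ht₀ (by simpa [IsLocalRing.maximalIdeal_eq_bot] using (show φ₀ t ∈ IsLocalRing.maximalIdeal K from h))
  · obtain ⟨q, hq, hqx⟩ := hx
    obtain ⟨φ, hφ⟩ := exists_algHom e x ⟨q, hqx⟩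
    have : q = Spec.map (CommRingCat.ofHom φ.toRingHom) (IsLocalRing.closedPoint K) :=
      e.left.isOpenEmbedding.injective (hqx.trans (by rw [← hφ]; rfl))
    subst this
    simp only [hval x φ hφ, hval x₀ φ₀ hφ₀]
    have := congrArg φ ht
    rw [map_mul, map_zero, mul_eq_zero] at this
    refine sub_eq_zero.mp ?_
    rcases this with h | h
    · exact absurd (show φ t ∈ IsLocalRing.maximalIdeal K by simp [IsLocalRing.maximalIdeal_eq_bot, h]) hq
    · rwa [map_sub, AlgHom.commutes, Algebra.algebraMap_self, RingHom.id_apply] at h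

end Groth.Agent.UnitProd
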