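import Mathlib
import Groth.Agent.UnitProd.Core

/-!
# Units on a product of varieties over an algebraically closed field
-/

set_option autoImplicit false
universe u

open CategoryTheory Limits AlgebraicGeometry MonoidalCategory CartesianMonoidalCategory

noncomputable section

namespace Groth.Agent.UnitProd

variable {K : Type u} [Field K] [IsAlgClosed K] {X Y : Over (Spec (CommRingCat.of K))}

open scoped TensorProduct in
/-- Over an algebraically closed field, the tensor product of reduced algebras is reduced. -/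
theorem isReduced_algebra_tensor (A B : Type u) [CommRing A] [Algebra K A] [_root_.IsReduced A] [CommRing B]
    [Algebra K B] [_root_.IsReduced B] [Algebra.FiniteType K B] : _root_.IsReduced (A ⊗[K] B) := by
  refine ⟨fun x hx => ?_⟩
  have : IsJacobsonRing B := isJacobsonRing_of_finiteType (A := K)
  let b := Module.Free.chooseBasis K A
  have key : ∀ (φ : B →ₐ[K] K) (y : A ⊗[K] B) i, b.repr (Algebra.TensorProduct.lift (AlgHom.id K A)
      ((Algebra.ofId K A).comp φ) (fun _ _ => Commute.all _ _) y) i = φ (TensorProduct.equivFinsuppOfBasisLeft b y i) := by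
    intro φ y i
    induction y using TensorProduct.induction_on with
    | zero => simp
    | tmul a c =>
      rw [Algebra.TensorProduct.lift_tmul, AlgHom.id_apply, AlgHom.comp_apply, Algebra.ofId_apply, mul_comm,
        ← Algebra.smul_def, map_smul, Finsupp.smul_apply, TensorProduct.equivFinsuppOfBasisLeft_apply_tmul_apply,
        map_smul, smul_eq_mul, smul_eq_mul, mul_comm]
    | add y z hy hz => simp only [map_add, Finsupp.add_apply, hy, hz]
  apply (TensorProduct.equivFinsuppOfBasisLeft b).injective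
  rw [map_zero]
  ext i
  have hbot : (⊥ : Ideal B).IsRadical := fun c hc => by
    obtain ⟨n, hn⟩ := hc
    exact IsReduced.eq_zero c ⟨n, hn⟩
  have hmem : TensorProduct.equivFinsuppOfBasisLeft b x i ∈ (⊥ : Ideal B).jacobson := by
    rw [Ideal.jacobson, Ideal.mem_sInf]
    rintro m ⟨-, hm⟩
    have : m.IsMaximal := hm
    let := Ideal.Quotient.field m
    have : Module.Finite K (B ⧸ m) := finite_of_finite_type_of_isJacobsonRing K (B ⧸ m)
    let φ : B →ₐ[K] K := ((AlgEquiv.ofBijective (Algebra.ofId K (B ⧸ m))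
      (IsAlgClosed.algebraMap_bijective_of_isIntegral (k := K) (K := B ⧸ m))).symm.toAlgHom).comp (Ideal.Quotient.mkₐ K m)
    have h0 : φ (TensorProduct.equivFinsuppOfBasisLeft b x i) = 0 := by
      rw [← key φ x i, IsReduced.eq_zero _ (hx.map _), map_zero]
      rfl
    refine Ideal.Quotient.eq_zero_iff_mem.1 ?_
    have h1 := congrArg (algebraMap K (B ⧸ m)) h0
    rw [map_zero] at h1
    rw [← h1]
    exact ((AlgEquiv.ofBijective (Algebra.ofId K (B ⧸ m))
      (IsAlgClosed.algebraMap_bijective_of_isIntegral (k := K) (K := B ⧸ m))).apply_symm_apply _).symm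
  rw [(IsJacobsonRing.out inferInstance hbot : (⊥ : Ideal B).jacobson = ⊥)] at hmem
  simpa using hmem

open scoped TensorProduct in
/-- The tensor product of reduced schemes locally of finite type is reduced. -/
theorem isReduced_tensor [LocallyOfFiniteType X.hom] [LocallyOfFiniteType Y.hom] [IsReduced X.left]
    [IsReduced Y.left] : IsReduced (X ⊗ Y).left := by
  let 𝒰 := Scheme.Pullback.openCoverOfLeftRight X.left.affineCover Y.left.affineCover X.hom Y.hom
  suffices IsReduced (pullback X.hom Y.hom) from this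
  suffices key : ∀ (i : X.left.affineCover.I₀) (j : Y.left.affineCover.I₀),
      IsReduced (pullback (X.left.affineCover.f i ≫ X.hom) (Y.left.affineCover.f j ≫ Y.hom)) from
    @IsReduced.of_openCover _ 𝒰 fun ij => key ij.1 ij.2
  intro i j
  have hredX : IsReduced (X.left.affineCover.X i) := isReduced_of_isOpenImmersion (X.left.affineCover.f i)
  have hredY : IsReduced (Y.left.affineCover.X j) := isReduced_of_isOpenImmersion (Y.left.affineCover.f j)
  have hlft : LocallyOfFiniteType (Y.left.affineCover.f j ≫ Y.hom) := inferInstance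
  obtain ⟨φ, hφ⟩ := Spec.map_surjective (R := CommRingCat.of K) (S := X.left.affineOpenCover.X i)
    (X.left.affineCover.f i ≫ X.hom)
  obtain ⟨ψ, hψ⟩ := Spec.map_surjective (R := CommRingCat.of K) (S := Y.left.affineOpenCover.X j)
    (Y.left.affineCover.f j ≫ Y.hom)
  let A := X.left.affineOpenCover.X i
  let B := Y.left.affineOpenCover.X j
  let : Algebra K A := φ.hom.toAlgebra
  let : Algebra K B := ψ.hom.toAlgebra
  have : _root_.IsReduced A := by
    exact (affine_isReduced_iff A).mp (hredX : IsReduced (Spec A)) --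
  have : _root_.IsReduced B := by
    exact (affine_isReduced_iff B).mp (hredY : IsReduced (Spec B)) --
  have : Algebra.FiniteType K B :=
    RingHom.finiteType_algebraMap.mp ((HasRingHomProperty.Spec_iff (P := @LocallyOfFiniteType)).mp (hψ ▸ hlft))
  have : _root_.IsReduced (A ⊗[K] B) := isReduced_algebra_tensor A B
  have : IsReduced (Spec (CommRingCat.of (A ⊗[K] B))) := (affine_isReduced_iff _).mpr ‹_›
  exact @isReduced_of_isOpenImmersion _ _ (pullback.congrHom hφ.symm hψ.symm ≪≫ pullbackSpecIso K A B).hom _ this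

/-- A global function with value one at every rational point of a reduced scheme is one. -/
theorem eq_one_of_forall_point [LocallyOfFiniteType X.hom] [IsReduced X.left] (f : Γ(X.left, ⊤))
    (h : ∀ z : 𝟙_ (Over (Spec (CommRingCat.of K))) ⟶ X, gam (R := K) z.left f = 1) : f = 1 := by
  have : JacobsonSpace X.left := LocallyOfFiniteType.jacobsonSpace X.hom
  refine sub_eq_zero.mp ((basicOpen_eq_bot_iff _).mp ?_)
  by_contra hne
  let B : X.left.Opens := X.left.basicOpen (f - 1)
  obtain ⟨p, hp, hpc⟩ := nonempty_inter_closedPoints (X := X.left) (Z := (B : Set X.left))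
    (Set.nonempty_iff_ne_empty.mpr fun h => hne (TopologicalSpace.Opens.ext h)) B.isOpen.isLocallyClosed
  let z : 𝟙_ (Over (Spec (CommRingCat.of K))) ⟶ X :=
    Over.homMk (pointOfClosedPoint X.hom p hpc) (pointOfClosedPoint_comp _ p hpc)
  have h2 : IsLocalRing.closedPoint K ∈ z.left ⁻¹ᵁ X.left.basicOpen (f - 1) := by
    change z.left (IsLocalRing.closedPoint K) ∈ B
    rw [show z.left (IsLocalRing.closedPoint K) = p from pointOfClosedPoint_apply _ p hpc _]
    exact hp
  rw [Scheme.preimage_basicOpen_top] at h2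
  have h3 : z.left.appTop (f - 1) = 0 := by
    refine (ConcreteCategory.bijective_of_isIso (Scheme.ΓSpecIso (CommRingCat.of K)).hom).1 ?_
    rw [map_sub, map_one, map_sub, map_one, map_zero]
    exact sub_eq_zero.mpr (h z)
  rw [h3, Scheme.basicOpen_zero] at h2
  exact h2

/-- The pullback of global functions along a morphism over `K`, on units. -/
def pull {A B : Over (Spec (CommRingCat.of K))} (m : A ⟶ B) : Γ(B.left, ⊤)ˣ →* Γ(A.left, ⊤)ˣ :=
  Units.map m.left.appTop.hom.toMonoidHom

theorem pull_comp {A B C : Over (Spec (CommRingCat.of K))} (m : A ⟶ B) (n : B ⟶ C) (f : Γ(C.left, ⊤)ˣ) :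
    pull (m ≫ n) f = pull m (pull n f) := rfl

theorem pull_id (f : Γ(X.left, ⊤)ˣ) : pull (𝟙 X) f = f := Units.ext rfl

/-- **Rosenlicht**: a unit on a product of connected reduced schemes is a product of units. -/
theorem eq_mul [LocallyOfFiniteType X.hom] [LocallyOfFiniteType Y.hom] [IsReduced X.left] [IsReduced Y.left]
    [ConnectedSpace X.left] [ConnectedSpace Y.left] (eX : 𝟙_ (Over (Spec (CommRingCat.of K))) ⟶ X)
    (eY : 𝟙_ (Over (Spec (CommRingCat.of K))) ⟶ Y) (f : Γ((X ⊗ Y).left, ⊤)ˣ) :
    f = pull (fst X Y) (pull (lift (𝟙 X) (toUnit X ≫ eY)) f) *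
      pull (snd X Y) (pull (lift (toUnit Y ≫ eX) (𝟙 Y)) f) * (pull (toUnit _ ≫ lift eX eY) f)⁻¹ := by
  have : IsReduced (X ⊗ Y).left := isReduced_tensor
  have : LocallyOfFiniteType (X ⊗ Y).hom := inferInstanceAs (LocallyOfFiniteType (pullback.fst X.hom Y.hom ≫ X.hom))
  set g := pull (fst X Y) (pull (lift (𝟙 X) (toUnit X ≫ eY)) f) *
      pull (snd X Y) (pull (lift (toUnit Y ≫ eX) (𝟙 Y)) f) * (pull (toUnit _ ≫ lift eX eY) f)⁻¹ with hg
  let w := f * g⁻¹
  have hax : ∀ {Z : Over (Spec (CommRingCat.of K))} (j : Z ⟶ X ⊗ Y), pull j f = pull j g → j.left.appTop w.1 = 1 := by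
    intro Z j h
    change ((pull j w : Γ(Z.left, ⊤)ˣ) : Γ(Z.left, ⊤)) = 1
    rw [map_mul, map_inv, h, mul_inv_cancel, Units.val_one]
  have h₁ : pull (lift (𝟙 X) (toUnit X ≫ eY)) f = pull (lift (𝟙 X) (toUnit X ≫ eY)) g := by
    rw [hg, map_mul, map_mul, map_inv, ← pull_comp, ← pull_comp, ← pull_comp, ← pull_comp, ← pull_comp, lift_fst, lift_snd,
      Category.id_comp, Category.assoc, comp_lift, ← Category.assoc eY, toUnit_unique (eY ≫ toUnit Y) (𝟙 _),
      Category.id_comp, Category.comp_id, ← Category.assoc (lift _ _), toUnit_unique (lift _ _ ≫ toUnit _) (toUnit X),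
      mul_inv_cancel_right]
  have h₂ : pull (lift (toUnit Y ≫ eX) (𝟙 Y)) f = pull (lift (toUnit Y ≫ eX) (𝟙 Y)) g := by
    rw [hg, map_mul, map_mul, map_inv, ← pull_comp, ← pull_comp, ← pull_comp, ← pull_comp, ← pull_comp, lift_fst, lift_snd,
      Category.id_comp, Category.assoc, comp_lift, ← Category.assoc eX, toUnit_unique (eX ≫ toUnit X) (𝟙 _),
      Category.id_comp, Category.comp_id, ← Category.assoc (lift _ _), toUnit_unique (lift _ _ ≫ toUnit _) (toUnit Y),
      mul_right_comm, mul_inv_cancel, one_mul]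
  refine mul_inv_eq_one.mp (Units.ext (eq_one_of_forall_point w.1 fun z => ?_))
  have := apply_eq_one w eX eY (hax _ h₁) (hax _ h₂) (z ≫ fst X Y) (z ≫ snd X Y)
  rwa [← comp_lift, lift_fst_snd, Category.comp_id] at this

end Groth.Agent.UnitProd
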