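import Mathlib
import Groth.Agent.UnitProd.Global
import Groth.Agent.UnitProd.SmoothReduced

/-!
# Units on connected smooth groups over an algebraically closed field are characters
-/

set_option autoImplicit false
universe u

open CategoryTheory Limits AlgebraicGeometry MonoidalCategory CartesianMonoidalCategory MonObj GrpObj

noncomputable section

namespace Groth.Agent.UnitProd

variable {K : Type u} [Field K] [IsAlgClosed K]

/-- A rational point of a nonempty scheme locally of finite type over an algebraically closed field. -/
theorem exists_point (X : Over (Spec (CommRingCat.of K))) [LocallyOfFiniteType X.hom] [Nonempty X.left] :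
    Nonempty (𝟙_ (Over (Spec (CommRingCat.of K))) ⟶ X) := by
  have : JacobsonSpace X.left := LocallyOfFiniteType.jacobsonSpace X.hom
  obtain ⟨p, -, hp⟩ := nonempty_inter_closedPoints (X := X.left) (Z := Set.univ) Set.univ_nonempty isClosed_univ.isLocallyClosed
  exact ⟨Over.homMk (pointOfClosedPoint X.hom p hp) (pointOfClosedPoint_comp _ p hp)⟩

/-- **Rosenlicht**: a unit with value one at the identity of a connected smooth group is a character. -/
theorem pull_mul_eq (G : Over (Spec (CommRingCat.of K))) [GrpObj G] [Smooth G.hom] [ConnectedSpace G.left]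
    (f : Γ(G.left, ⊤)ˣ) (h : pull η[G] f = 1) : pull μ[G] f = pull (fst G G) f * pull (snd G G) f := by
  have : IsReduced G.left := isReduced_left_of_smooth G.hom
  have h1 := eq_mul η[G] η[G] (pull μ[G] f)
  have h0 : pull (toUnit (G ⊗ G) ≫ lift η[G] η[G]) (pull μ[G] f) = 1 := by
    rw [← pull_comp, Category.assoc]
    have e : lift η[G] η[G] ≫ μ[G] = η[G] := by
      have : lift η[G] η[G] = η[G] ≫ lift (toUnit G ≫ η[G]) (𝟙 G) := by
        rw [comp_lift, Category.comp_id, ← Category.assoc, toUnit_unique (η[G] ≫ toUnit G) (𝟙 _), Category.id_comp]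
      rw [this, Category.assoc]
      simp
    rw [e, pull_comp, h, map_one]
  have hl : pull (lift (toUnit G ≫ η[G]) (𝟙 G)) (pull μ[G] f) = f := by
    rw [← pull_comp]; simp [pull_id]
  have hr : pull (lift (𝟙 G) (toUnit G ≫ η[G])) (pull μ[G] f) = f := by
    rw [← pull_comp]; simp [pull_id]
  rw [hl, hr, h0, inv_one, _root_.mul_one] at h1
  exact h1

end Groth.Agent.UnitProd
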